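import Mathlib
import Groth.Agent.S5217

/-!
# Quotients in categories of sheaves of sets
-/

set_option autoImplicit false

universe w v₁ u₁

namespace Groth.ShfQuot

open CategoryTheory CategoryTheory.Limits

variable {C : Type u₁} [Category.{v₁} C] {J : GrothendieckTopology C} [HasSheafify J (Type w)]

theorem effectiveEpi {A B : Sheaf J (Type w)} (q : A ⟶ B) [Epi q] : EffectiveEpi q :=
  (isRegularEpi_iff_effectiveEpi q).1 (IsRegularEpiCategory.regularEpiOfEpi q)

theorem uee {A B : Sheaf J (Type w)} (q : A ⟶ B) [Epi q] :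
    MorphismProperty.universally (fun (A B : Sheaf J (Type w)) (p : A ⟶ B) => EffectiveEpi p) q :=
  fun _ _ _ _ _ h => haveI := Groth.Agent.S5217.epi_stable h.flip; effectiveEpi _

/-- Lifting along an epimorphism after a cover. -/
theorem lift₁ {A B W : Sheaf J (Type w)} (q : A ⟶ B) [Epi q] (x : W ⟶ B) :
    ∃ (W' : Sheaf J (Type w)) (c : W' ⟶ W) (a : W' ⟶ A), Epi c ∧ a ≫ q = c ≫ x :=
  ⟨_, pullback.fst x q, pullback.snd x q,
    Groth.Agent.S5217.epi_stable (IsPullback.of_hasPullback x q).flip, pullback.condition.symm⟩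

/-- Factorisation through a monomorphism is local. -/
theorem factor_local {W' W Z X : Sheaf J (Type w)} (c : W' ⟶ W) [Epi c] (m : Z ⟶ X) [Mono m]
    (x : W ⟶ X) (z : W' ⟶ Z) (h : z ≫ m = c ≫ x) : ∃ y : W ⟶ Z, y ≫ m = x := by
  haveI := effectiveEpi c
  exact ⟨(CommSq.mk h).lift, CommSq.fac_right _⟩

theorem factors_local {W' W X : Sheaf J (Type w)} (c : W' ⟶ W) [Epi c] (P : Subobject X)
    (x : W ⟶ X) (h : P.Factors (c ≫ x)) : P.Factors x := by
  obtain ⟨y, hy⟩ := factor_local c P.arrow x (P.factorThru _ h) (P.factorThru_arrow _ h)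
  exact (Subobject.factors_iff _ _).2 ⟨y, hy⟩

theorem le_of_pullback {X B : Sheaf J (Type w)} (π : X ⟶ B) [Epi π] (S T : Subobject B)
    (h : (Subobject.pullback π).obj S ≤ (Subobject.pullback π).obj T) : S ≤ T := by
  obtain ⟨W', c, a, hc, ha⟩ := lift₁ π S.arrow
  have hS : ((Subobject.pullback π).obj S).Factors a :=
    (pullback_factors_iff π S a).2 ((Subobject.factors_iff _ _).2 ⟨c, ha.symm⟩)
  have hT : T.Factors (c ≫ S.arrow) :=
    ha ▸ (pullback_factors_iff π T a).1 (Subobject.factors_of_le _ h hS)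
  obtain ⟨y, hy⟩ := (Subobject.factors_iff _ _).1 (factors_local c T _ hT)
  exact Subobject.le_of_comm y hy

theorem pullback_injective {X B : Sheaf J (Type w)} (π : X ⟶ B) [Epi π] :
    Function.Injective (Subobject.pullback π).obj :=
  fun S T h => le_antisymm (le_of_pullback π S T h.le) (le_of_pullback π T S h.ge)

variable {R X : Sheaf J (Type w)} {p₁ p₂ : R ⟶ X} (e : UniversallyEffectiveEquivalenceRelation p₁ p₂)

include e

theorem epi_π : Epi e.π :=
  haveI : EffectiveEpi e.π := MorphismProperty.universally_le _ _ e.universally_effectiveEpi_π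
  inferInstance

theorem rel_of_eq {W : Sheaf J (Type w)} (x y : W ⟶ X) (h : x ≫ e.π = y ≫ e.π) :
    ∃ r : W ⟶ R, r ≫ p₁ = x ∧ r ≫ p₂ = y :=
  ⟨e.isKernelPair.lift x y h, e.isKernelPair.lift_fst _ _ _, e.isKernelPair.lift_snd _ _ _⟩

theorem range_pullback :
    Set.range (Subobject.pullback e.π).obj =
      {Y : Subobject X | (Subobject.pullback p₁).obj Y = (Subobject.pullback p₂).obj Y} := by
  haveI := epi_π e
  ext Y
  refine ⟨?_, fun hY => ?_⟩
  · rintro ⟨S, rfl⟩
    show _ = _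
    rw [← Subobject.pullback_comp, ← Subobject.pullback_comp, e.isKernelPair.w]
  · let f := Y.arrow ≫ e.π
    have fac : Sheaf.toImage f ≫ Sheaf.imageι f = f := (imageMonoFactorization f).fac
    refine ⟨Subobject.mk (Sheaf.imageι f), le_antisymm ?_ ?_⟩
    · let P := (Subobject.pullback e.π).obj (Subobject.mk (Sheaf.imageι f))
      have hP : (Subobject.mk (Sheaf.imageι f)).Factors (P.arrow ≫ e.π) :=
        (pullback_factors_iff _ _ _).1 ((Subobject.factors_iff _ _).2 ⟨𝟙 _, Category.id_comp _⟩)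
      obtain ⟨z, hz⟩ : ∃ z : (P : Sheaf J (Type w)) ⟶ Sheaf.image f, z ≫ Sheaf.imageι f = P.arrow ≫ e.π :=
        (Subobject.mk_factors_iff (Sheaf.imageι f) _).1 hP
      obtain ⟨W', c, a, hc, ha⟩ := lift₁ (Sheaf.toImage f) z
      have h : (a ≫ Y.arrow) ≫ e.π = (c ≫ P.arrow) ≫ e.π := by
        refine (Category.assoc _ _ _).trans ((congrArg (a ≫ ·) fac.symm).trans ?_)
        rw [← Category.assoc, ha, Category.assoc, hz, Category.assoc]
      obtain ⟨r, hr₁, hr₂⟩ := rel_of_eq e _ _ h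
      have h1 : ((Subobject.pullback p₁).obj Y).Factors r :=
        (pullback_factors_iff _ _ _).2 ((Subobject.factors_iff _ _).2 ⟨a, hr₁.symm⟩)
      rw [show (Subobject.pullback p₁).obj Y = (Subobject.pullback p₂).obj Y from hY,
        pullback_factors_iff, hr₂] at h1
      obtain ⟨y, hy⟩ := (Subobject.factors_iff _ _).1 (factors_local c Y _ h1)
      exact Subobject.le_of_comm y hy
    · have h : ((Subobject.pullback e.π).obj (Subobject.mk (Sheaf.imageι f))).Factors Y.arrow :=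
        (pullback_factors_iff _ _ _).2 ((Subobject.mk_factors_iff _ _).2 ⟨Sheaf.toImage f, fac⟩)
      exact Subobject.le_of_comm _ (Subobject.factorThru_arrow _ _ h)

theorem mono_quotient {Y : Sheaf J (Type w)} (ι : Y ⟶ X)
    [HasCoequalizer (pullback.fst (pullback.fst p₁ ι ≫ p₂) ι ≫ pullback.snd p₁ ι)
      (pullback.snd (pullback.fst p₁ ι ≫ p₂) ι)]
    (g : coequalizer (pullback.fst (pullback.fst p₁ ι ≫ p₂) ι ≫ pullback.snd p₁ ι)
      (pullback.snd (pullback.fst p₁ ι ≫ p₂) ι) ⟶ e.B)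
    (hg : coequalizer.π _ _ ≫ g = ι ≫ e.π) : Mono g where
  right_cancellation {W} a b h := by
    obtain ⟨W₁, c₁, y₁, hc₁, h₁⟩ := lift₁ (coequalizer.π _ _) a
    obtain ⟨W₂, c₂, y₂, hc₂, h₂⟩ := lift₁ (coequalizer.π _ _) (c₁ ≫ b)
    have hπ : (c₂ ≫ y₁ ≫ ι) ≫ e.π = (y₂ ≫ ι) ≫ e.π := by
      simp only [Category.assoc, ← hg]
      rw [reassoc_of% h₁, reassoc_of% h₂, h]
    obtain ⟨r, hr₁, hr₂⟩ := rel_of_eq e _ _ hπ
    let s : W₂ ⟶ pullback p₁ ι := pullback.lift r (c₂ ≫ y₁) (by rw [hr₁, Category.assoc])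
    have hs : (s ≫ pullback.fst p₁ ι ≫ p₂) = y₂ ≫ ι := by
      rw [← Category.assoc, pullback.lift_fst, hr₂]
    let t : W₂ ⟶ pullback (pullback.fst p₁ ι ≫ p₂) ι := pullback.lift s y₂ hs
    have ht₁ : t ≫ pullback.fst (pullback.fst p₁ ι ≫ p₂) ι ≫ pullback.snd p₁ ι = c₂ ≫ y₁ := by
      rw [pullback.lift_fst_assoc, pullback.lift_snd]
    have := t ≫= coequalizer.condition (pullback.fst (pullback.fst p₁ ι ≫ p₂) ι ≫ pullback.snd p₁ ι)
      (pullback.snd (pullback.fst p₁ ι ≫ p₂) ι)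
    rw [← Category.assoc t, ht₁, pullback.lift_snd_assoc, Category.assoc, h₁, h₂] at this
    rwa [cancel_epi c₂, cancel_epi c₁] at this

end Groth.ShfQuot
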