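import Mathlib

/-!
# Quotients of equivalence relations of presheaves
-/

set_option autoImplicit false

universe w v₁ u₁

namespace Groth.PshQuot

open CategoryTheory CategoryTheory.Limits Opposite

variable {C : Type u₁} [Category.{v₁} C]

variable {R X : Cᵒᵖ ⥤ Type w} {p₁ p₂ : R ⟶ X}

/-- The quotient presheaf of an equivalence relation of sheaves. -/
noncomputable def quotPresheaf (p₁ p₂ : R ⟶ X) : Cᵒᵖ ⥤ Type w where
  obj U := Quot fun a b : X.obj U => ∃ r : R.obj U, p₁.app U r = a ∧ p₂.app U r = b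
  map {U V} g := ↾(Quot.map (X.map g) (by
    rintro a b ⟨r, rfl, rfl⟩
    exact ⟨R.map g r, NatTrans.naturality_apply p₁ g r, NatTrans.naturality_apply p₂ g r⟩))
  map_id U := by
    ext x
    induction x using Quot.ind
    simp [Quot.map]
  map_comp g h := by
    ext x
    induction x using Quot.ind
    simp [Quot.map]

/-- The quotient map. -/
noncomputable def quotMap (p₁ p₂ : R ⟶ X) : X ⟶ quotPresheaf p₁ p₂ where
  app U := ↾(Quot.mk _)


theorem jointly_injective (e : EquivalenceRelation p₁ p₂) (U : Cᵒᵖ) (r s : R.obj U)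
    (h₁ : p₁.app U r = p₁.app U s) (h₂ : p₂.app U r = p₂.app U s) : r = s := by
  have : Mono (prod.lift p₁ p₂) := ⟨fun {W} a b h => e.right_cancellation a b
    (by simpa only [Category.assoc, prod.lift_fst, prod.lift_snd] using congrArg (fun q => q ≫ prod.fst) h) (by simpa only [Category.assoc, prod.lift_fst, prod.lift_snd] using congrArg (fun q => q ≫ prod.snd) h)⟩
  apply injective_of_mono (((evaluation Cᵒᵖ (Type w)).obj U).map (prod.lift p₁ p₂))
  apply Concrete.isLimit_ext _ (isLimitOfPreserves ((evaluation Cᵒᵖ (Type w)).obj U) (prodIsProd X X))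
  rintro ⟨_ | _⟩
  · show (((evaluation Cᵒᵖ (Type w)).obj U).map (prod.lift p₁ p₂) ≫ ((evaluation Cᵒᵖ (Type w)).obj U).map prod.fst) r =
      (((evaluation Cᵒᵖ (Type w)).obj U).map (prod.lift p₁ p₂) ≫ ((evaluation Cᵒᵖ (Type w)).obj U).map prod.fst) s
    rw [← Functor.map_comp, prod.lift_fst]
    exact h₁
  · show (((evaluation Cᵒᵖ (Type w)).obj U).map (prod.lift p₁ p₂) ≫ ((evaluation Cᵒᵖ (Type w)).obj U).map prod.snd) r =
      (((evaluation Cᵒᵖ (Type w)).obj U).map (prod.lift p₁ p₂) ≫ ((evaluation Cᵒᵖ (Type w)).obj U).map prod.snd) s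
    rw [← Functor.map_comp, prod.lift_snd]
    exact h₂

theorem equivalence_app (e : EquivalenceRelation p₁ p₂) (U : Cᵒᵖ) :
    Equivalence fun a b : X.obj U => ∃ r : R.obj U, p₁.app U r = a ∧ p₂.app U r = b where
  refl a := ⟨((evaluation Cᵒᵖ (Type w)).obj U).map e.r a,
    congr($(show ((evaluation Cᵒᵖ (Type w)).obj U).map e.r ≫ ((evaluation Cᵒᵖ (Type w)).obj U).map p₁ = 𝟙 _ by
      rw [← Functor.map_comp, e.reflexivity₁, CategoryTheory.Functor.map_id]) a),
    congr($(show ((evaluation Cᵒᵖ (Type w)).obj U).map e.r ≫ ((evaluation Cᵒᵖ (Type w)).obj U).map p₂ = 𝟙 _ by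
      rw [← Functor.map_comp, e.reflexivity₂, CategoryTheory.Functor.map_id]) a)⟩
  symm := by
    rintro a b ⟨r, rfl, rfl⟩
    exact ⟨((evaluation Cᵒᵖ (Type w)).obj U).map e.s r,
      congr($(show ((evaluation Cᵒᵖ (Type w)).obj U).map e.s ≫ ((evaluation Cᵒᵖ (Type w)).obj U).map p₁ = ((evaluation Cᵒᵖ (Type w)).obj U).map p₂ by
        rw [← Functor.map_comp, e.symmetry₁]) r),
      congr($(show ((evaluation Cᵒᵖ (Type w)).obj U).map e.s ≫ ((evaluation Cᵒᵖ (Type w)).obj U).map p₂ = ((evaluation Cᵒᵖ (Type w)).obj U).map p₁ by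
        rw [← Functor.map_comp, e.symmetry₂]) r)⟩
  trans := by
    rintro a b c ⟨r, rfl, hr⟩ ⟨r', hr', rfl⟩
    have hpb : IsPullback e.c.fst e.c.snd p₂ p₁ :=
      IsPullback.of_isLimit e.isLimit
    obtain ⟨z, hz₁, hz₂⟩ := Types.exists_of_isPullback (hpb.map ((evaluation Cᵒᵖ (Type w)).obj U)) r r' (hr.trans hr'.symm)
    refine ⟨((evaluation Cᵒᵖ (Type w)).obj U).map e.t z, ?_, ?_⟩
    · show (((evaluation Cᵒᵖ (Type w)).obj U).map e.t ≫ ((evaluation Cᵒᵖ (Type w)).obj U).map p₁) z = _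
      rw [← Functor.map_comp, e.transitivity₁, Functor.map_comp]
      exact congrArg _ hz₁
    · show (((evaluation Cᵒᵖ (Type w)).obj U).map e.t ≫ ((evaluation Cᵒᵖ (Type w)).obj U).map p₂) z = _
      rw [← Functor.map_comp, e.transitivity₂, Functor.map_comp]
      exact congrArg _ hz₂

theorem isPullback_quotMap (e : EquivalenceRelation p₁ p₂) :
    IsPullback p₁ p₂ (quotMap p₁ p₂) (quotMap p₁ p₂) := by
  refine IsPullback.of_forall_isPullback_app fun U => ?_
  rw [Types.isPullback_iff]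
  refine ⟨?_, fun a b h => jointly_injective e U a b h.1 h.2, fun a b h => ?_⟩
  · ext r
    exact Quot.sound ⟨r, rfl, rfl⟩
  · have := Quot.eqvGen_exact h
    rw [(equivalence_app e U).eqvGen_iff] at this
    obtain ⟨r, h₁, h₂⟩ := this
    exact ⟨r, h₁, h₂⟩

theorem universallyEffective [IsEquivalenceRelation p₁ p₂] :
    IsUniversallyEffectiveEquivalenceRelation p₁ p₂ := by
  obtain ⟨e⟩ := IsEquivalenceRelation.nonempty_equivalenceRelation (p₁ := p₁) (p₂ := p₂)
  let π := quotMap p₁ p₂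
  haveI : Epi π := by
    haveI : ∀ U, Epi (π.app U) := fun U => by
      rw [epi_iff_surjective]
      exact Quot.mk_surjective
    exact NatTrans.epi_of_epi_app _
  have hk : IsKernelPair π p₁ p₂ := isPullback_quotMap e
  haveI : EffectiveEpi π := (isRegularEpi_iff_effectiveEpi π).1 (IsRegularEpiCategory.regularEpiOfEpi π)
  have hc := isColimitCoforkOfEffectiveEpi π _ hk.isLimit
  have hpo : IsPushout p₁ p₂ π π := by
    have hab : ∀ (s : PushoutCocone p₁ p₂), s.inl = s.inr := fun s => by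
      have := congrArg (fun q => e.r ≫ q) s.condition
      simpa [reassoc_of% e.reflexivity₁, reassoc_of% e.reflexivity₂] using this
    exact ⟨⟨hk.w⟩, ⟨PushoutCocone.IsColimit.mk _
      (fun s => Cofork.IsColimit.desc hc s.inl (s.condition.trans (congrArg (p₂ ≫ ·) (hab s).symm)))
      (fun s => Cofork.IsColimit.π_desc hc)
      (fun s => (Cofork.IsColimit.π_desc hc).trans (hab s))
      (fun s m hm₁ _ => Cofork.IsColimit.hom_ext hc (hm₁.trans (Cofork.IsColimit.π_desc' hc _ _).symm))⟩⟩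
  refine ⟨⟨{ e with B := _, π := π, isKernelPair := hk, isPushout := hpo, universally_effectiveEpi_π := ?_ }⟩⟩
  intro F' G' a b q hq
  haveI : Epi q := by
    haveI : ∀ U, Epi (q.app U) := fun U =>
      MorphismProperty.of_isPullback (P := MorphismProperty.epimorphisms (Type w)) (hq.flip.app U)
        (inferInstanceAs (Epi (π.app U)))
    exact NatTrans.epi_of_epi_app _
  exact (isRegularEpi_iff_effectiveEpi q).1 (IsRegularEpiCategory.regularEpiOfEpi q)

end Groth.PshQuot
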